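import Cfsg.Agent.Lib.Cert.J2.M
import Cfsg.Agent.Lib.Cert.Sch2

set_option autoImplicit false
set_option maxRecDepth 100000

namespace Cfsg.Agent.Ct.J2s.S2

open Cfsg.Agent.PC

open Cfsg.Agent.Fi Cfsg.Agent.Ct
def W_t : TL := (TL.node (TL.node (TL.node (TL.node (TL.leaf []) (TL.leaf [nat_lit 3, nat_lit 0, nat_lit 2, nat_lit 1, nat_lit 0, nat_lit 3, nat_lit 1, nat_lit 2, nat_lit 0, nat_lit 3, nat_lit 1, nat_lit 0, nat_lit 3, nat_lit 0, nat_lit 2, nat_lit 1, nat_lit 3, nat_lit 0, nat_lit 1, nat_lit 2, nat_lit 0, nat_lit 1, nat_lit 2, nat_lit 3, nat_lit 1, nat_lit 0, nat_lit 3, nat_lit 1, nat_lit 2, nat_lit 3, nat_lit 0, nat_lit 3])) (TL.node (TL.leaf [nat_lit 0, nat_lit 2, nat_lit 0, nat_lit 2, nat_lit 3, nat_lit 1, nat_lit 0, nat_lit 3, nat_lit 0, nat_lit 1, nat_lit 3, nat_lit 0, nat_lit 3, nat_lit 1, nat_lit 0, nat_lit 2, nat_lit 3, nat_lit 0, nat_lit 1, nat_lit 0, nat_lit 1, nat_lit 2, nat_lit 0, nat_lit 3, nat_lit 1, nat_lit 0, nat_lit 3, nat_lit 2, nat_lit 1]) (TL.leaf [nat_lit 1, nat_lit 3, nat_lit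 2, nat_lit 0, nat_lit 3, nat_lit 1, nat_lit 0, nat_lit 3, nat_lit 0, nat_lit 2, nat_lit 1, nat_lit 3, nat_lit 2, nat_lit 0, nat_lit 1, nat_lit 3, nat_lit 2, nat_lit 3, nat_lit 2, nat_lit 0, nat_lit 3, nat_lit 1, nat_lit 2]))) (TL.node (TL.node (TL.leaf [nat_lit 0, nat_lit 2, nat_lit 0, nat_lit 3, nat_lit 0, nat_lit 2, nat_lit 1, nat_lit 0, nat_lit 3, nat_lit 1, nat_lit 2, nat_lit 0, nat_lit 3, nat_lit 0, nat_lit 2, nat_lit 1, nat_lit 3, nat_lit 0, nat_lit 2, nat_lit 1, nat_lit 3, nat_lit 0, nat_lit 2, nat_lit 0]) (TL.leaf [nat_lit 2, nat_lit 1, nat_lit 0, nat_lit 1, nat_lit 2, nat_lit 3, nat_lit 1, nat_lit 0, nat_lit 3, nat_lit 1, nat_lit 2, nat_lit 3, nat_lit 0, nat_lit 1, nat_lit 2])) (TL.node (TL.leaf [nat_lit 1, nat_lit 0, nat_lit 2, nat_lit 3, nat_lit 1, nat_lit 0, nat_lit 2, nat_lit 3, nat_lit 0, nat_lit 3, nat_lit 1, nat_lit 3, nat_lit 0, nat_lit 3, nat_lit 2, nat_lit 3, nat_lit 2, nat_lit 0, nat_lit 3, nat_lit 1, nat_lit 3, nat_lit 0, nat_lit 2, nat_lit 0, nat_lit 2, nat_lit 3]) (TL.leaf [nat_lit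 0, nat_lit 2, nat_lit 0, nat_lit 2, nat_lit 3, nat_lit 1, nat_lit 0, nat_lit 3, nat_lit 0, nat_lit 1, nat_lit 3, nat_lit 0, nat_lit 3, nat_lit 1, nat_lit 0, nat_lit 2, nat_lit 3, nat_lit 1, nat_lit 0, nat_lit 2, nat_lit 0, nat_lit 3, nat_lit 1, nat_lit 0, nat_lit 3, nat_lit 2, nat_lit 1])))) (TL.node (TL.node (TL.node (TL.leaf [nat_lit 2, nat_lit 3, nat_lit 0, nat_lit 3, nat_lit 1, nat_lit 3, nat_lit 0, nat_lit 3, nat_lit 2, nat_lit 0, nat_lit 2, nat_lit 3, nat_lit 2, nat_lit 0, nat_lit 2, nat_lit 3, nat_lit 0, nat_lit 3, nat_lit 1, nat_lit 3, nat_lit 0, nat_lit 3, nat_lit 2]) (TL.leaf [nat_lit 0, nat_lit 1, nat_lit 0, nat_lit 3, nat_lit 1, nat_lit 0, nat_lit 1])) (TL.node (TL.leaf [nat_lit 2, nat_lit 0, nat_lit 3, nat_lit 1, nat_lit 0, nat_lit 3, nat_lit 0, nat_lit 1, nat_lit 3, nat_lit 0, nat_lit 2, nat_lit 0, nat_lit 2, nat_lit 3, nat_lit 0, nat_lit 2, nat_lit 1, nat_lit 0, nat_lit 3, nat_lit 1, nat_lit 2, nat_lit 0, nat_lit 2, nat_lit 3, nat_lit 0, nat_lit 3, nat_lit 1, nat_lit 0, nat_lit 3, nat_lit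 2, nat_lit 0]) (TL.leaf [nat_lit 0, nat_lit 1, nat_lit 3, nat_lit 1, nat_lit 0, nat_lit 2, nat_lit 3, nat_lit 0, nat_lit 3, nat_lit 1, nat_lit 3, nat_lit 0, nat_lit 3, nat_lit 2, nat_lit 3, nat_lit 2, nat_lit 0, nat_lit 3, nat_lit 1, nat_lit 0, nat_lit 3, nat_lit 0, nat_lit 2, nat_lit 3, nat_lit 1, nat_lit 0]))) (TL.node (TL.node (TL.leaf [nat_lit 2, nat_lit 0, nat_lit 3, nat_lit 1, nat_lit 0, nat_lit 3, nat_lit 0, nat_lit 1, nat_lit 3, nat_lit 0, nat_lit 2, nat_lit 1, nat_lit 3, nat_lit 0, nat_lit 1, nat_lit 3, nat_lit 0, nat_lit 1, nat_lit 2, nat_lit 0, nat_lit 3, nat_lit 1, nat_lit 0, nat_lit 3, nat_lit 1, nat_lit 0]) (TL.leaf [nat_lit 0, nat_lit 2, nat_lit 0, nat_lit 3, nat_lit 0, nat_lit 2, nat_lit 1, nat_lit 0, nat_lit 3, nat_lit 1, nat_lit 2, nat_lit 0, nat_lit 3, nat_lit 0, nat_lit 2, nat_lit 1, nat_lit 3, nat_lit 0, nat_lit 2, nat_lit 1, nat_lit 3, nat_lit 0, nat_lit 2, nat_lit 0])) (TL.node (TL.leaf [nat_lit 0, nat_lit 2, nat_lit 0, nat_lit 3, nat_lit 0, nat_lit 2, nat_lit 1, nat_lit 0, nat_lit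 3, nat_lit 2, nat_lit 0, nat_lit 1, nat_lit 2, nat_lit 3, nat_lit 0, nat_lit 3, nat_lit 1, nat_lit 3, nat_lit 2, nat_lit 1, nat_lit 0, nat_lit 1, nat_lit 3, nat_lit 2, nat_lit 1]) (TL.leaf [nat_lit 0, nat_lit 1, nat_lit 3, nat_lit 2, nat_lit 0, nat_lit 3, nat_lit 1, nat_lit 0, nat_lit 1, nat_lit 3, nat_lit 2, nat_lit 1, nat_lit 0, nat_lit 1, nat_lit 2])))))
noncomputable def W (i : ℕ) : List ℕ := TL.get W_t i
def B : List ℕ := [nat_lit 95, nat_lit 22, nat_lit 7, nat_lit 89]
noncomputable def q (j : ℕ) : Cfsg.Spor.J2 := ev J2.al (W j)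
noncomputable def Q (j : ℕ) : ℕ → ℕ := trF J2.T (W j)
theorem md : Md J2.pt 100 B q Q 16 := (J2.md0).words' (by decide +kernel)
def I (i : ℕ) : ℕ := Nat.land (Nat.shiftRight (nat_lit 0x1d0001e07c000800000000000000000000000000000000000000000000000000000000000000000000000000000000000000000000000000000000000000000000000000000000000000000000000070000000000000000000000000000000000000000000000000000000000000000000000000000000000000000000000000000000000000000000000000000000000000000000000000000000000000006c15000000000000000000000000000000000000000000000000000000000000000000000000000000000000000000000000000000000000000000000000000000000000000000000000000000000000681403c00000000000000000000000000000000000000000000000000000000000000000000000000000000000000000000000000000000000000000000000000000000000000000000000000000000064130380a000000000000000000000000000000000000000000000000000000000000000000000000000000000000000000000000000000000000000000000000000000000000000000000000000000060120340901800000000000000000000000000000000000000000000000000000000000000000000000000000000000000000000000000000000000000000000000000000000000000000000000000005c11030080140300000000000000000000000000000000000000000000000000000000000000000000000000000000000000000000000000000000000000000000000000000000000000000000000000581002c0701002004000000000000000000000000000000000000000000000000000000000000000000000000000000000000000000000000000000000000000000000000000000000000000000000000000000000000000000)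 (Nat.mul (nat_lit 10) i)) (nat_lit 1023)
def Ru_t1 : TN := (TN.node (TN.node (TN.node (TN.node (TN.leaf (nat_lit 0)) (TN.leaf (nat_lit 0x80420000000002010c2))) (TN.leaf (nat_lit 0x46000000000046082))) (TN.node (TN.leaf (nat_lit 0x84000000000084082)) (TN.leaf (nat_lit 0x420c70000000000c7102)))) (TN.node (TN.node (TN.leaf (nat_lit 0x43000000000043082)) (TN.leaf (nat_lit 0x1084146000000000146142))) (TN.node (TN.leaf (nat_lit 0x85000000000085082)) (TN.leaf (nat_lit 0x20000000001c7042)))))
def Ru_t2 : TN := (TN.node (TN.node (TN.node (TN.leaf (nat_lit 0x42000000000042082)) (TN.leaf (nat_lit 0x10c60000000000c60c2))) (TN.node (TN.leaf (nat_lit 0x1000000000104042)) (TN.leaf (nat_lit 0x21470000000001470c2)))) (TN.node (TN.node (TN.leaf (nat_lit 0x10000000000c3042)) (TN.leaf (nat_lit 0x47000000000047082))) (TN.node (TN.leaf (nat_lit 0x105000000000105082)) (TN.leaf (nat_lit 0x8083147000000000204142)))))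
def Ru_t3 : TN := (TN.node Ru_t1 Ru_t2)
def Ru_t4 : TN := (TN.node (TN.node (TN.node (TN.node (TN.leaf (nat_lit 266242)) (TN.leaf (nat_lit 0x10860000000000860c2))) (TN.node (TN.leaf (nat_lit 0x10c40000000000c40c2)) (TN.leaf (nat_lit 0x42107000000000107102)))) (TN.node (TN.node (TN.leaf (nat_lit 0x83000000000083082)) (TN.leaf (nat_lit 0x1000000000186042))) (TN.node (TN.leaf (nat_lit 0x420c50000000000c5102)) (TN.leaf (nat_lit 0x201083147000000000206182))))) (TN.node (TN.node (TN.node (TN.leaf (nat_lit 532482)) (TN.leaf (nat_lit 0x106000000000106082))) (TN.node (TN.leaf (nat_lit 0x45000000000045082)) (TN.leaf (nat_lit 0xc4187000000000187102)))) (TN.node (TN.node (TN.leaf (nat_lit 0x44000000000044082)) (TN.leaf (nat_lit 0x87000000000087082))) (TN.node (TN.leaf (nat_lit 0x2000000000145042)) (TN.leaf (nat_lit 0x201105000000000203102))))))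
def Ru_t : TN := (TN.node Ru_t3 Ru_t4)
noncomputable def Ru (i : ℕ) : ℕ := TN.get Ru_t i
def D_t1 : TN := (TN.node (TN.node (TN.node (TN.node (TN.leaf (nat_lit 0x20000000000000001)) (TN.leaf (nat_lit 0x30000000000000000000000000000000000000000000000010000000100000000000000000000000100000000000000000000000000000003000000000000000000000000000000010000000300000003000000030000000000000003000000010000000000000000000000000000000000000000000000020000000300000021))) (TN.leaf (nat_lit 0x2000000000000000100000000000000000000000100000000000000000000000100000011))) (TN.node (TN.leaf (nat_lit 0x20000000000000000000000000000000000000009)) (TN.leaf (nat_lit 0x100000000000000000000000000000000000000000000000000000000000000000000000000000000000000000000000000000000000000030000000300000000000000030000000300000000000000000000000000000019)))) (TN.node (TN.node (TN.leaf (nat_lit 0x100000000000000000000000000000000000000000000000000000000000000000000000000000000000000000000000000000000000000000000000000000005)) (TN.leaf (nat_lit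 0x2000000010000000100000000000000000000000000000000000000000000000000000000000000000000000000000000000000000000000000000000000000000000000000000000000000010000000000000001000000010000000100000015))) (TN.node (TN.leaf (nat_lit 0x2000000000000000000000000000000000000000000000001000000000000000000000000000000000000000000000000000000000000000d)) (TN.leaf (nat_lit 0x3000000000000000000000002000000010000000000000001000000000000000100000001000000010000000300000000000000000000000000000000000000000000000100000000000000010000000100000000000000000000000000000000000000000000000100000001000000010000000300000001000000020000001d)))))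
def D_t2 : TN := (TN.node (TN.node (TN.node (TN.node (TN.leaf (nat_lit 0x100000000000000000000000000000000000000000000000000000003)) (TN.leaf (nat_lit 0x300000000000000000000000300000000000000000000000000000000000000000000000000000000000000010000000000000000000000000000000000000000000000000000000300000000000000010000000000000023))) (TN.leaf (nat_lit 0x20000000000000000000000010000000000000000000000000000000000000000000000000000000000000000000000000000000000000001000000000000000000000000000000000000000000000000000000000000000000000001000000000000000000000013))) (TN.node (TN.leaf (nat_lit 0x2000000000000000000000000000000000000000000000000000000000000000000000000000000000000000000000000000000000000000000000000000000000000000000000000000000000000000000000000000000000000000000000000000000000000000000000000000000000000000100000001000000000000000b)) (TN.leaf (nat_lit 0x200000000000000000000000000000000000000010000000000000000000000030000000300000000000000000000000000000000000000000000000000000000000000030000000300000000000000030000000300000000000000020000000000000000000000020000001b))))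 (TN.node (TN.node (TN.leaf (nat_lit 0x20000000000000000000000000000000000000000000000000000000000000000000000000000000000000007)) (TN.leaf (nat_lit 0x30000000200000000000000000000000000000000000000000000000000000000000000000000000000000000000000000000000000000000000000000000000000000001000000010000000000000000000000010000000100000000000000020000000100000003000000000000000000000000000000010000000100000017))) (TN.node (TN.leaf (nat_lit 0x2000000000000000000000001000000000000000000000000000000000000000000000000000000000000000000000000000000000000000f)) (TN.leaf (nat_lit 0x3000000030000000000000000000000000000000000000000000000000000000100000003000000000000000000000003000000000000000000000003000000000000001f)))))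
def D_t3 : TN := (TN.node D_t1 D_t2)
def D_t4 : TN := (TN.node (TN.node (TN.node (TN.node (TN.leaf (nat_lit 0x100000000000000000000000000000002)) (TN.leaf (nat_lit 0x30000000000000000000000000000000000000000000000010000000100000000000000000000000100000000000000000000000000000000000000000000000000000000000000010000000300000003000000000000000000000002000000010000000300000000000000000000000000000000000000010000000300000022))) (TN.leaf (nat_lit 0x2000000000000000100000000000000000000000000000000000000000000000000000000000000000000000000000000000000000000000100000000000000000000000100000012))) (TN.node (TN.leaf (nat_lit 0x2000000000000000000000000000000000000000000000000000000000000000a)) (TN.leaf (nat_lit 0x2000000000000000000000001000000000000000000000003000000000000000300000003000000030000000000000003000000030000000000000000000000000000000300000000000000030000001a)))) (TN.node (TN.node (TN.leaf (nat_lit 0x10000000000000000000000000000000000000000000000000000000000000000000000000000000000000000000000000000000000000000000000000000000000000000000000000000000000000000000000000000000000000006))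 (TN.leaf (nat_lit 0x200000000000000010000000100000000000000000000000000000000000000000000000000000000000000000000000000000000000000000000000000000000000000010000000000000000000000000000000000000001000000010000000100000016))) (TN.node (TN.leaf (nat_lit 0x20000000000000000000000000000000000000000000000000000000000000000000000000000000000000000000000010000000000000000000000000000000000000000000000000000000e)) (TN.leaf (nat_lit 0x200000000000000010000000100000000000000000000000000000000000000000000000000000001000000000000000000000000000000000000000000000000000000010000000100000002000000020000000100000001000000020000000100000002000000030000001e)))))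
def D_t5 : TN := (TN.node (TN.node (TN.node (TN.node (TN.leaf (nat_lit 0x1000000000000000000000000000000000000000000000000000000000000000000000000000000000000000000000004)) (TN.leaf (nat_lit 0x2000000010000000000000000000000000000000000000000000000020000000000000000000000000000000000000000000000000000000100000000000000000000000000000000000000000000000000000001000000000000000000000000000000000000000000000000))) (TN.leaf (nat_lit 0x200000001000000010000000000000000000000000000000000000000000000010000000000000001000000010000000100000014))) (TN.node (TN.leaf (nat_lit 0x2000000000000000000000000000000000000000000000000000000000000000000000003000000000000000c)) (TN.leaf (nat_lit 0x3000000000000000200000000000000010000000000000001000000000000000100000001000000000000000000000000000000000000000000000000000000000000000100000000000000010000000100000001000000030000000000000000000000000000000100000001000000000000000300000002000000010000001c)))) (TN.node (TN.node (TN.leaf (nat_lit 0x200000000000000000000000000000000000000000000000000000000000000000000000000000000000000000000000000000000000000000000000000000000000000000000000000000000000000000000000000000008))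 (TN.leaf (nat_lit 0x20000000100000000000000010000000100000000000000000000000000000000000000010000000100000000000000010000000100000000000000000000000000000001000000030000000200000018))) (TN.node (TN.leaf (nat_lit 0x20000000000000000000000000000000000000000000000000000000000000000000000000000000000000000000000000000000000000000000000030000000300000010)) (TN.leaf (nat_lit 0x100000000000000010000000100000000000000000000000000000000000000030000000000000000000000010000000100000000000000000000000000000001000000000000000100000000000000000000000000000001000000010000000100000020)))))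
def D_t6 : TN := (TN.node D_t4 D_t5)
def D_t : TN := (TN.node D_t3 D_t6)
noncomputable def D (i : ℕ) : ℕ := TN.get D_t i
def La_t1 : TN := (TN.node (TN.node (TN.node (TN.node (TN.leaf (nat_lit 0x2020000000000020000020002000000000003020000030000000000020200020000)) (TN.leaf (nat_lit 0x20002000000000201020001000301030003020100000300000000020100000200))) (TN.node (TN.leaf (nat_lit 768)) (TN.leaf (nat_lit 0x2000000020000020002000002030101030001030102020300000000020100010300)))) (TN.node (TN.node (TN.leaf (nat_lit 0x20000010000000000000000000000)) (TN.leaf (nat_lit 0x300000000))) (TN.leaf (nat_lit 196608)))) (TN.node (TN.node (TN.node (TN.leaf (nat_lit 0)) (TN.leaf (nat_lit 0))) (TN.node (TN.leaf (nat_lit 0)) (TN.leaf (nat_lit 0)))) (TN.node (TN.node (TN.leaf (nat_lit 0)) (TN.leaf (nat_lit 0))) (TN.leaf (nat_lit 0)))))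
def La_t2 : TN := (TN.node (TN.node (TN.node (TN.node (TN.leaf (nat_lit 0)) (TN.leaf (nat_lit 0))) (TN.node (TN.leaf (nat_lit 0)) (TN.leaf (nat_lit 0)))) (TN.node (TN.node (TN.leaf (nat_lit 0)) (TN.leaf (nat_lit 0))) (TN.leaf (nat_lit 0)))) (TN.node (TN.node (TN.node (TN.leaf (nat_lit 0)) (TN.leaf (nat_lit 0))) (TN.node (TN.leaf (nat_lit 0)) (TN.leaf (nat_lit 0)))) (TN.node (TN.node (TN.leaf (nat_lit 0)) (TN.leaf (nat_lit 0))) (TN.leaf (nat_lit 0)))))
def La_t3 : TN := (TN.node La_t1 La_t2)
def La_t4 : TN := (TN.node (TN.node (TN.node (TN.node (TN.leaf (nat_lit 0)) (TN.leaf (nat_lit 0x30002010301020000010100010300010201030002000200000300000000030101030300))) (TN.node (TN.leaf (nat_lit 0)) (TN.leaf (nat_lit 0x30000000000000000000000000000000000000000000000000000000000000000000000)))) (TN.node (TN.node (TN.leaf (nat_lit 0)) (TN.leaf (nat_lit 0))) (TN.leaf (nat_lit 0)))) (TN.node (TN.node (TN.node (TN.leaf (nat_lit 0)) (TN.leaf (nat_lit 0))) (TN.node (TN.leaf (nat_lit 0)) (TN.leaf (nat_lit 0)))) (TN.node (TN.node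 (TN.leaf (nat_lit 0)) (TN.leaf (nat_lit 0))) (TN.leaf (nat_lit 0)))))
def La_t5 : TN := (TN.node (TN.node (TN.node (TN.node (TN.leaf (nat_lit 0)) (TN.leaf (nat_lit 0))) (TN.node (TN.leaf (nat_lit 0)) (TN.leaf (nat_lit 0)))) (TN.node (TN.node (TN.leaf (nat_lit 0)) (TN.leaf (nat_lit 0))) (TN.leaf (nat_lit 0)))) (TN.node (TN.node (TN.node (TN.leaf (nat_lit 0)) (TN.leaf (nat_lit 0))) (TN.node (TN.leaf (nat_lit 0)) (TN.leaf (nat_lit 0)))) (TN.node (TN.node (TN.leaf (nat_lit 0)) (TN.leaf (nat_lit 0))) (TN.leaf (nat_lit 0)))))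
def La_t6 : TN := (TN.node La_t4 La_t5)
def La_t7 : TN := (TN.node La_t3 La_t6)
def La_t8 : TN := (TN.node (TN.node (TN.node (TN.node (TN.leaf (nat_lit 0)) (TN.leaf (nat_lit 0))) (TN.node (TN.leaf (nat_lit 0)) (TN.leaf (nat_lit 0x1010300010000010102010001030201010002030201000100000000000200010100)))) (TN.node (TN.node (TN.leaf (nat_lit 0)) (TN.leaf (nat_lit 0x20001020000010002030000030201030000010102020100000000000303030100))) (TN.leaf (nat_lit 0x1030003020000010203010003010300000003030000030000000000000203020100)))) (TN.node (TN.node (TN.node (TN.leaf (nat_lit 0)) (TN.leaf (nat_lit 0))) (TN.node (TN.leaf (nat_lit 0)) (TN.leaf (nat_lit 0)))) (TN.node (TN.node (TN.leaf (nat_lit 0)) (TN.leaf (nat_lit 0))) (TN.leaf (nat_lit 0)))))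
def La_t9 : TN := (TN.node (TN.node (TN.node (TN.node (TN.leaf (nat_lit 0)) (TN.leaf (nat_lit 0))) (TN.node (TN.leaf (nat_lit 0)) (TN.leaf (nat_lit 0)))) (TN.node (TN.node (TN.leaf (nat_lit 0)) (TN.leaf (nat_lit 0))) (TN.leaf (nat_lit 0)))) (TN.node (TN.node (TN.node (TN.leaf (nat_lit 0)) (TN.leaf (nat_lit 0))) (TN.node (TN.leaf (nat_lit 0)) (TN.leaf (nat_lit 0)))) (TN.node (TN.node (TN.leaf (nat_lit 0)) (TN.leaf (nat_lit 0))) (TN.leaf (nat_lit 0)))))
def La_t10 : TN := (TN.node La_t8 La_t9)
def La_t11 : TN := (TN.node (TN.node (TN.node (TN.node (TN.leaf (nat_lit 0)) (TN.leaf (nat_lit 0))) (TN.node (TN.leaf (nat_lit 0)) (TN.leaf (nat_lit 0x30303010100030003010002000100030101030003030002010200000000000103020200)))) (TN.node (TN.node (TN.leaf (nat_lit 0)) (TN.leaf (nat_lit 0))) (TN.leaf (nat_lit 0)))) (TN.node (TN.node (TN.node (TN.leaf (nat_lit 0)) (TN.leaf (nat_lit 0))) (TN.node (TN.leaf (nat_lit 0)) (TN.leaf (nat_lit 0)))) (TN.node (TN.node (TN.leaf (nat_lit 0)) (TN.leaf (nat_lit 0))) (TN.leaf (nat_lit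 0)))))
def La_t12 : TN := (TN.node (TN.node (TN.node (TN.node (TN.leaf (nat_lit 0)) (TN.leaf (nat_lit 0))) (TN.node (TN.leaf (nat_lit 0)) (TN.leaf (nat_lit 0)))) (TN.node (TN.node (TN.leaf (nat_lit 0)) (TN.leaf (nat_lit 0))) (TN.leaf (nat_lit 0)))) (TN.node (TN.node (TN.node (TN.leaf (nat_lit 0)) (TN.leaf (nat_lit 0))) (TN.node (TN.leaf (nat_lit 0)) (TN.leaf (nat_lit 0)))) (TN.node (TN.node (TN.leaf (nat_lit 0)) (TN.leaf (nat_lit 0))) (TN.leaf (nat_lit 0)))))
def La_t13 : TN := (TN.node La_t11 La_t12)
def La_t14 : TN := (TN.node La_t10 La_t13)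
def La_t15 : TN := (TN.node La_t7 La_t14)
def La_t16 : TN := (TN.node (TN.node (TN.node (TN.node (TN.leaf (nat_lit 0)) (TN.leaf (nat_lit 0x3000000))) (TN.node (TN.leaf (nat_lit 0x2020200020000020201020000030300020002030201000200000000030003010300)) (TN.leaf (nat_lit 0x30000000000)))) (TN.node (TN.node (TN.leaf (nat_lit 0x20202020000000002020003030301010000010301020300000000030302030100)) (TN.leaf (nat_lit 0x3030202000000030203010000020301010000010300020100000000030000010000))) (TN.leaf (nat_lit 0x20002000000000201020001000301030003030103000300000000020100000200)))) (TN.node (TN.node (TN.node (TN.leaf (nat_lit 0)) (TN.leaf (nat_lit 0))) (TN.node (TN.leaf (nat_lit 0)) (TN.leaf (nat_lit 0)))) (TN.node (TN.node (TN.leaf (nat_lit 0)) (TN.leaf (nat_lit 0))) (TN.leaf (nat_lit 0)))))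
def La_t17 : TN := (TN.node (TN.node (TN.node (TN.node (TN.leaf (nat_lit 0)) (TN.leaf (nat_lit 0))) (TN.node (TN.leaf (nat_lit 0)) (TN.leaf (nat_lit 0)))) (TN.node (TN.node (TN.leaf (nat_lit 0)) (TN.leaf (nat_lit 0))) (TN.leaf (nat_lit 0)))) (TN.node (TN.node (TN.node (TN.leaf (nat_lit 0)) (TN.leaf (nat_lit 0))) (TN.node (TN.leaf (nat_lit 0)) (TN.leaf (nat_lit 0)))) (TN.node (TN.node (TN.leaf (nat_lit 0)) (TN.leaf (nat_lit 0))) (TN.leaf (nat_lit 0)))))
def La_t18 : TN := (TN.node La_t16 La_t17)
def La_t19 : TN := (TN.node (TN.node (TN.node (TN.node (TN.leaf (nat_lit 0)) (TN.leaf (nat_lit 0))) (TN.node (TN.leaf (nat_lit 0)) (TN.leaf (nat_lit 0)))) (TN.node (TN.node (TN.leaf (nat_lit 0)) (TN.leaf (nat_lit 0x303010000020103030201020003030000000001030002020000000000020202030100))) (TN.leaf (nat_lit 0)))) (TN.node (TN.node (TN.node (TN.leaf (nat_lit 0)) (TN.leaf (nat_lit 0))) (TN.node (TN.leaf (nat_lit 0)) (TN.leaf (nat_lit 0)))) (TN.node (TN.node (TN.leaf (nat_lit 0)) (TN.leaf (nat_lit 0))) (TN.leaf (nat_lit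 0)))))
def La_t20 : TN := (TN.node (TN.node (TN.node (TN.node (TN.leaf (nat_lit 0)) (TN.leaf (nat_lit 0))) (TN.node (TN.leaf (nat_lit 0)) (TN.leaf (nat_lit 0)))) (TN.node (TN.node (TN.leaf (nat_lit 0)) (TN.leaf (nat_lit 0))) (TN.leaf (nat_lit 0)))) (TN.node (TN.node (TN.node (TN.leaf (nat_lit 0)) (TN.leaf (nat_lit 0))) (TN.node (TN.leaf (nat_lit 0)) (TN.leaf (nat_lit 0)))) (TN.node (TN.node (TN.leaf (nat_lit 0)) (TN.leaf (nat_lit 0))) (TN.leaf (nat_lit 0)))))
def La_t21 : TN := (TN.node La_t19 La_t20)
def La_t22 : TN := (TN.node La_t18 La_t21)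
def La_t23 : TN := (TN.node (TN.node (TN.node (TN.node (TN.leaf (nat_lit 0)) (TN.leaf (nat_lit 0x302000000020000020302030002030101030000020102030300000000020203010200))) (TN.node (TN.leaf (nat_lit 0)) (TN.leaf (nat_lit 0x300000301000000000100010000000100000001000101000000000000010000000300)))) (TN.node (TN.node (TN.leaf (nat_lit 0)) (TN.leaf (nat_lit 0x302000000020000020202020002030101030003020102010300000000020302010200))) (TN.leaf (nat_lit 0x303010002000000030000020000000200000000020000020000000000000002000100)))) (TN.node (TN.node (TN.node (TN.leaf (nat_lit 0)) (TN.leaf (nat_lit 0))) (TN.node (TN.leaf (nat_lit 0)) (TN.leaf (nat_lit 0)))) (TN.node (TN.node (TN.leaf (nat_lit 0)) (TN.leaf (nat_lit 0))) (TN.leaf (nat_lit 0)))))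
def La_t24 : TN := (TN.node (TN.node (TN.node (TN.node (TN.leaf (nat_lit 0)) (TN.leaf (nat_lit 0))) (TN.node (TN.leaf (nat_lit 0)) (TN.leaf (nat_lit 0)))) (TN.node (TN.node (TN.leaf (nat_lit 0)) (TN.leaf (nat_lit 0))) (TN.leaf (nat_lit 0)))) (TN.node (TN.node (TN.node (TN.leaf (nat_lit 0)) (TN.leaf (nat_lit 0))) (TN.node (TN.leaf (nat_lit 0)) (TN.leaf (nat_lit 0)))) (TN.node (TN.node (TN.leaf (nat_lit 0)) (TN.leaf (nat_lit 0))) (TN.leaf (nat_lit 0)))))
def La_t25 : TN := (TN.node La_t23 La_t24)
def La_t26 : TN := (TN.node (TN.node (TN.node (TN.node (TN.leaf (nat_lit 0)) (TN.leaf (nat_lit 0))) (TN.node (TN.leaf (nat_lit 0)) (TN.leaf (nat_lit 0)))) (TN.node (TN.node (TN.leaf (nat_lit 0)) (TN.leaf (nat_lit 0))) (TN.leaf (nat_lit 0)))) (TN.node (TN.node (TN.node (TN.leaf (nat_lit 0)) (TN.leaf (nat_lit 0))) (TN.node (TN.leaf (nat_lit 0)) (TN.leaf (nat_lit 0)))) (TN.node (TN.node (TN.leaf (nat_lit 0)) (TN.leaf (nat_lit 0))) (TN.leaf (nat_lit 0)))))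
def La_t27 : TN := (TN.node (TN.node (TN.node (TN.node (TN.leaf (nat_lit 0)) (TN.leaf (nat_lit 0))) (TN.node (TN.leaf (nat_lit 0)) (TN.leaf (nat_lit 0)))) (TN.node (TN.node (TN.leaf (nat_lit 0)) (TN.leaf (nat_lit 0))) (TN.leaf (nat_lit 0)))) (TN.node (TN.node (TN.node (TN.leaf (nat_lit 0)) (TN.leaf (nat_lit 0))) (TN.node (TN.leaf (nat_lit 0)) (TN.leaf (nat_lit 0)))) (TN.node (TN.node (TN.leaf (nat_lit 0)) (TN.leaf (nat_lit 0))) (TN.leaf (nat_lit 0)))))
def La_t28 : TN := (TN.node La_t26 La_t27)
def La_t29 : TN := (TN.node La_t25 La_t28)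
def La_t30 : TN := (TN.node La_t22 La_t29)
def La_t : TN := (TN.node La_t15 La_t30)
noncomputable def La (i : ℕ) : ℕ := TN.get La_t i
def Le_t : TN := (TN.leaf (nat_lit 0x2020000020000000002020003030101010002010101010000000000010102010100))
noncomputable def Le (i : ℕ) : ℕ := TN.get Le_t i
def C_t1 : TN := (TN.node (TN.node (TN.node (TN.node (TN.leaf (nat_lit 0)) (TN.leaf (nat_lit 0))) (TN.node (TN.leaf (nat_lit 0)) (TN.leaf (nat_lit 0)))) (TN.node (TN.node (TN.leaf (nat_lit 0)) (TN.leaf (nat_lit 0))) (TN.node (TN.leaf (nat_lit 0)) (TN.leaf (nat_lit 0))))) (TN.node (TN.node (TN.node (TN.leaf (nat_lit 0x10000000000000000000000000000000000000000000000000000000300000000000000000000000000000000000000000000000000000000000000000000000000000000000000000000000000000000)) (TN.leaf (nat_lit 0))) (TN.node (TN.leaf (nat_lit 0)) (TN.leaf (nat_lit 0)))) (TN.node (TN.node (TN.leaf (nat_lit 0)) (TN.leaf (nat_lit 0))) (TN.node (TN.leaf (nat_lit 0)) (TN.leaf (nat_lit 0))))))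
def C_t2 : TN := (TN.node (TN.node (TN.node (TN.node (TN.leaf (nat_lit 0x2000000000000000000000000000000000000000000000000000000020000000000000000000000000000000000000000000000000000000300000000000000000000000000000000000000000000000000000003000000000000000000000000000000000000000000000000)) (TN.leaf (nat_lit 0))) (TN.node (TN.leaf (nat_lit 0)) (TN.leaf (nat_lit 0)))) (TN.node (TN.node (TN.leaf (nat_lit 0)) (TN.leaf (nat_lit 0))) (TN.node (TN.leaf (nat_lit 0)) (TN.leaf (nat_lit 0))))) (TN.node (TN.node (TN.node (TN.leaf (nat_lit 0x3000000030000000000000000000000000000000000000000000000000000000000000000000000030000000000000000000000000000000000000000000000000000000300000000000000000000000000000000000000000000000000000001000000000000000000000000000000000000000000000000)) (TN.leaf (nat_lit 0))) (TN.node (TN.leaf (nat_lit 0)) (TN.leaf (nat_lit 0)))) (TN.node (TN.node (TN.leaf (nat_lit 0)) (TN.leaf (nat_lit 0))) (TN.node (TN.leaf (nat_lit 0)) (TN.leaf (nat_lit 0))))))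
def C_t3 : TN := (TN.node C_t1 C_t2)
def C_t4 : TN := (TN.node (TN.node (TN.node (TN.node (TN.leaf (nat_lit 0x2000000000000000000000000000000000000000000000000000000020000000000000000000000000000000000000000000000000000000200000000000000000000000000000000000000000000000000000001000000000000000000000000000000000000000000000000)) (TN.leaf (nat_lit 0))) (TN.node (TN.leaf (nat_lit 0)) (TN.leaf (nat_lit 0)))) (TN.node (TN.node (TN.leaf (nat_lit 0)) (TN.leaf (nat_lit 0))) (TN.node (TN.leaf (nat_lit 0)) (TN.leaf (nat_lit 0))))) (TN.node (TN.node (TN.node (TN.leaf (nat_lit 0x300000000000000000000000000000003000000000000000000000000000000000000000000000000000000000000000000000000000000000000000000000000000000000000000000000000000000000000000000000000000000000000000000000001000000000000000000000000000000000000000000000000)) (TN.leaf (nat_lit 0))) (TN.node (TN.leaf (nat_lit 0)) (TN.leaf (nat_lit 0)))) (TN.node (TN.node (TN.leaf (nat_lit 0)) (TN.leaf (nat_lit 0))) (TN.node (TN.leaf (nat_lit 0)) (TN.leaf (nat_lit 0))))))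
def C_t5 : TN := (TN.node (TN.node (TN.node (TN.node (TN.leaf (nat_lit 0x1000000000000000000000000000000000000000000000000000000030000000000000000000000000000000000000000000000000000000100000000000000000000000000000000000000000000000000000000000000000000000000000000000000000000000000000000)) (TN.leaf (nat_lit 0))) (TN.node (TN.leaf (nat_lit 0)) (TN.leaf (nat_lit 0)))) (TN.node (TN.node (TN.leaf (nat_lit 0)) (TN.leaf (nat_lit 0))) (TN.node (TN.leaf (nat_lit 0)) (TN.leaf (nat_lit 0))))) (TN.node (TN.node (TN.node (TN.leaf (nat_lit 0x300000003000000000000000000000000000000000000000000000000000000000000000000000000000000000000000000000000000000000000000000000000000000000000000300000000000000000000000000000000000000000000000000000000000000000000000000000000000000000000000000000000)) (TN.leaf (nat_lit 0))) (TN.node (TN.leaf (nat_lit 0)) (TN.leaf (nat_lit 0)))) (TN.node (TN.node (TN.leaf (nat_lit 0)) (TN.leaf (nat_lit 0))) (TN.node (TN.leaf (nat_lit 0)) (TN.leaf (nat_lit 0))))))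
def C_t6 : TN := (TN.node C_t4 C_t5)
def C_t : TN := (TN.node C_t3 C_t6)
noncomputable def C (i : ℕ) : ℕ := TN.get C_t i
def e (i : ℕ) : ℕ := Nat.land (Nat.shiftRight (nat_lit 2) (Nat.mul (nat_lit 2) i)) (nat_lit 3)
def U_t : TL := (TL.node (TL.node (TL.node (TL.node (TL.node (TL.node (TL.leaf [nat_lit 1]) (TL.leaf [nat_lit 8])) (TL.leaf [nat_lit 3])) (TL.node (TL.leaf [nat_lit 2]) (TL.leaf [nat_lit 2]))) (TL.node (TL.node (TL.leaf [nat_lit 6]) (TL.leaf [nat_lit 3])) (TL.node (TL.leaf [nat_lit 4]) (TL.leaf [nat_lit 8])))) (TL.node (TL.node (TL.node (TL.node (TL.leaf [nat_lit 4]) (TL.leaf [nat_lit 8])) (TL.leaf [nat_lit 5])) (TL.node (TL.leaf [nat_lit 8]) (TL.leaf [nat_lit 6]))) (TL.node (TL.node (TL.leaf [nat_lit 1]) (TL.leaf [nat_lit 8])) (TL.node (TL.leaf [nat_lit 4]) (TL.leaf [nat_lit 4]))))) (TL.node (TL.node (TL.node (TL.node (TL.node (TL.leaf [nat_lit 3]) (TL.leaf [nat_lit 8])) (TL.leaf [nat_lit 3])) (TL.node (TL.leaf [nat_lit 2]) (TL.leaf [nat_lit 5]))) (TL.node (TL.node (TL.leaf [nat_lit 7]) (TL.leaf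 [nat_lit 4])) (TL.node (TL.leaf [nat_lit 4]) (TL.leaf [nat_lit 6])))) (TL.node (TL.node (TL.node (TL.leaf [nat_lit 5]) (TL.leaf [nat_lit 3])) (TL.node (TL.leaf [nat_lit 1]) (TL.leaf [nat_lit 8]))) (TL.node (TL.node (TL.leaf [nat_lit 1]) (TL.leaf [nat_lit 5])) (TL.node (TL.leaf [nat_lit 2]) (TL.leaf [nat_lit 5]))))))
noncomputable def U (i : ℕ) : List ℕ := TL.get U_t i
def V1_t : TL := (TL.node (TL.node (TL.node (TL.node (TL.node (TL.node (TL.leaf [nat_lit 2, nat_lit 2]) (TL.leaf [nat_lit 3, nat_lit 6])) (TL.leaf [nat_lit 4, nat_lit 4])) (TL.node (TL.leaf [nat_lit 2, nat_lit 3]) (TL.leaf [nat_lit 6, nat_lit 7]))) (TL.node (TL.node (TL.leaf [nat_lit 6, nat_lit 6]) (TL.leaf [nat_lit 7, nat_lit 7])) (TL.node (TL.leaf [nat_lit 5, nat_lit 5]) (TL.leaf [nat_lit 6, nat_lit 6])))) (TL.node (TL.node (TL.node (TL.node (TL.leaf [nat_lit 4, nat_lit 4]) (TL.leaf [nat_lit 4, nat_lit 6])) (TL.leaf [nat_lit 7, nat_lit 7])) (TL.node (TL.leaf [nat_lit 1, nat_lit 1]) (TL.leaf [nat_lit 6, nat_lit 7]))) (TL.node (TL.node (TL.leaf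 [nat_lit 1, nat_lit 5]) (TL.leaf [nat_lit 3, nat_lit 3])) (TL.node (TL.leaf [nat_lit 4, nat_lit 5]) (TL.leaf [nat_lit 6, nat_lit 7]))))) (TL.node (TL.node (TL.node (TL.node (TL.node (TL.leaf [nat_lit 3, nat_lit 3]) (TL.leaf [nat_lit 3, nat_lit 4])) (TL.leaf [nat_lit 6, nat_lit 6])) (TL.node (TL.leaf [nat_lit 2, nat_lit 4]) (TL.leaf [nat_lit 5, nat_lit 6]))) (TL.node (TL.node (TL.leaf [nat_lit 7, nat_lit 7]) (TL.leaf [nat_lit 7, nat_lit 7])) (TL.node (TL.leaf [nat_lit 6, nat_lit 6]) (TL.leaf [nat_lit 7, nat_lit 7])))) (TL.node (TL.node (TL.node (TL.leaf [nat_lit 5, nat_lit 5]) (TL.leaf [nat_lit 5, nat_lit 5])) (TL.node (TL.leaf [nat_lit 5, nat_lit 5]) (TL.leaf [nat_lit 4, nat_lit 4]))) (TL.node (TL.node (TL.leaf [nat_lit 1, nat_lit 7]) (TL.leaf [nat_lit 6, nat_lit 6])) (TL.node (TL.leaf [nat_lit 2, nat_lit 6]) (TL.leaf [nat_lit 6, nat_lit 7]))))))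
noncomputable def V1 (i : ℕ) : List ℕ := TL.get V1_t i
def V2_t : TL := (TL.node (TL.node (TL.node (TL.node (TL.node (TL.node (TL.leaf []) (TL.leaf [nat_lit 6, nat_lit 3, nat_lit 1])) (TL.leaf [nat_lit 1])) (TL.node (TL.leaf [nat_lit 3, nat_lit 2]) (TL.leaf [nat_lit 7, nat_lit 6, nat_lit 4, nat_lit 3]))) (TL.node (TL.node (TL.leaf [nat_lit 1]) (TL.leaf [nat_lit 2])) (TL.node (TL.leaf [nat_lit 2]) (TL.leaf [nat_lit 1])))) (TL.node (TL.node (TL.node (TL.node (TL.leaf [nat_lit 1]) (TL.leaf [nat_lit 6, nat_lit 4])) (TL.leaf [nat_lit 2])) (TL.node (TL.leaf []) (TL.leaf [nat_lit 7, nat_lit 6, nat_lit 4, nat_lit 3]))) (TL.node (TL.node (TL.leaf [nat_lit 5, nat_lit 1]) (TL.leaf [nat_lit 1])) (TL.node (TL.leaf [nat_lit 5, nat_lit 4]) (TL.leaf [nat_lit 7, nat_lit 6, nat_lit 4, nat_lit 3]))))) (TL.node (TL.node (TL.node (TL.node (TL.node (TL.leaf [nat_lit 1]) (TL.leaf [nat_lit 4, nat_lit 3, nat_lit 1])) (TL.leaf [nat_lit 1])) (TL.node (TL.leaf [nat_lit 4, nat_lit 2]) (TL.leaf [nat_lit 6, nat_lit 5, nat_lit 4, nat_lit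 2, nat_lit 1]))) (TL.node (TL.node (TL.leaf [nat_lit 2]) (TL.leaf [nat_lit 2])) (TL.node (TL.leaf [nat_lit 1]) (TL.leaf [nat_lit 2])))) (TL.node (TL.node (TL.node (TL.leaf [nat_lit 2]) (TL.leaf [nat_lit 2])) (TL.node (TL.leaf [nat_lit 2]) (TL.leaf [nat_lit 1]))) (TL.node (TL.node (TL.leaf [nat_lit 7, nat_lit 1]) (TL.leaf [nat_lit 1])) (TL.node (TL.leaf [nat_lit 6, nat_lit 2, nat_lit 1]) (TL.leaf [nat_lit 7, nat_lit 6, nat_lit 4, nat_lit 3]))))))
noncomputable def V2 (i : ℕ) : List ℕ := TL.get V2_t i
def Y_t : TL := (TL.node (TL.node (TL.node (TL.leaf [nat_lit 2, nat_lit 1]) (TL.leaf [nat_lit 7, nat_lit 6, nat_lit 5, nat_lit 2])) (TL.node (TL.leaf [nat_lit 2]) (TL.leaf [nat_lit 5, nat_lit 4]))) (TL.node (TL.node (TL.leaf [nat_lit 7, nat_lit 5, nat_lit 3, nat_lit 1]) (TL.leaf [nat_lit 4])) (TL.leaf [nat_lit 7, nat_lit 5, nat_lit 2, nat_lit 1])))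
noncomputable def Y (i : ℕ) : List ℕ := TL.get Y_t i
def O_t : TL := (TL.node (TL.node (TL.node (TL.leaf [nat_lit 0]) (TL.leaf [nat_lit 63])) (TL.node (TL.leaf [nat_lit 6]) (TL.leaf [nat_lit 29, nat_lit 90]))) (TL.node (TL.node (TL.leaf [nat_lit 20]) (TL.leaf [nat_lit 29])) (TL.leaf [nat_lit 6, nat_lit 86])))
noncomputable def O (i : ℕ) : List ℕ := TL.get O_t i
noncomputable def f1 : ℕ → ℕ := rvE Q B (nat_lit 16) Ru
noncomputable def f2 (j : ℕ) : ℕ := rlE I Ru (nat_lit 33) (nat_lit 4) (U j) (V1 j) (V2 j) (D j)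
noncomputable def f3 : ℕ → ℕ := tgR I Ru (nat_lit 33) (nat_lit 2) (nat_lit 4) C D (nat_lit 36) La
noncomputable def f4 : ℕ → ℕ := chE Q B (nat_lit 100) (nat_lit 16) (nat_lit 7) (nat_lit 9) Y O
theorem ra0 : Nat.beq (rng f1 (nat_lit 0) (nat_lit 33)) (nat_lit 0) = true := by decide +kernel
theorem rb0 : Nat.beq (rng f2 (nat_lit 0) (nat_lit 35)) (nat_lit 0) = true := by decide +kernel
theorem rc0 : Nat.beq (rng f3 (nat_lit 0) (nat_lit 7)) (nat_lit 0) = true := by decide +kernel
theorem rd0 : Nat.beq (rng f4 (nat_lit 0) (nat_lit 7)) (nat_lit 0) = true := by decide +kernel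
theorem h1 : ∀ i < 33, f1 i = 0 := by
  have h := zero_lt_zero f1
  have h := zero_lt_add (a := (nat_lit 0)) (n := (nat_lit 33)) (b := (nat_lit 33)) h ra0 rfl
  exact h
theorem h2 : ∀ i < 35, f2 i = 0 := by
  have h := zero_lt_zero f2
  have h := zero_lt_add (a := (nat_lit 0)) (n := (nat_lit 35)) (b := (nat_lit 35)) h rb0 rfl
  exact h
theorem h3 : ∀ i < 7, f3 i = 0 := by
  have h := zero_lt_zero f3
  have h := zero_lt_add (a := (nat_lit 0)) (n := (nat_lit 7)) (b := (nat_lit 7)) h rc0 rfl
  exact h
theorem h4 : ∀ i < 7, f4 i = 0 := by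
  have h := zero_lt_zero f4
  have h := zero_lt_add (a := (nat_lit 0)) (n := (nat_lit 7)) (b := (nat_lit 7)) h rd0 rfl
  exact h
theorem nok : NoK (Cfsg.Spor.J2) (2 ^ (1 + 1)) := fun _ _ _ _ h =>
  (md.rv (I := I) (K := 33) rfl ⟨rfl, by decide⟩ (upTo_beq (by decide +kernel)) h1).core h (by norm_num)
    (md.syl (by norm_num) rfl (by decide) h4) (by rw [J2.card]; decide) (n := 4) (s := 1) (e := e) (L := Le) (C := C)
    ⟨rfl, by decide, rfl, by decide, by decide, rfl, by decide⟩ h2 (upTo_beq (by decide +kernel)) (upTo_beq (by decide +kernel)) h3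

end Cfsg.Agent.Ct.J2s.S2
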